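import Cfsg.Agent.EqLemmas
import Cfsg.Agent.Lib.GLOrder.Basic
import Mathlib.FieldTheory.Finite.Extension
import Mathlib.RingTheory.Polynomial.Cyclotomic.Roots

/-!
Sylow `r`-subgroups of `GL_n(q)` and `SL_n(q)` for a prime `r > n` not dividing `q`:
homocyclic, realised inside a block diagonal torus.
-/

set_option autoImplicit false

namespace Cfsg.Agent.SylowTorus

open Matrix

section Arith

variable {q r : ℕ} [hr : Fact r.Prime]

theorem natCast_ne_zero (hrq : ¬ r ∣ q) : (q : ZMod r) ≠ 0 := fun h =>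
  hrq ((ZMod.natCast_eq_zero_iff q r).1 h)

theorem orderOf_pos_q (hrq : ¬ r ∣ q) : 0 < orderOf (q : ZMod r) :=
  orderOf_pos_iff.2 (isOfFinOrder_iff_pow_eq_one.2 ⟨r - 1, by
    have := hr.out.two_le; omega, ZMod.pow_card_sub_one_eq_one (natCast_ne_zero hrq)⟩)

theorem orderOf_lt (hrq : ¬ r ∣ q) : orderOf (q : ZMod r) < r := by
  have h2 := hr.out.two_le
  have := Nat.le_of_dvd (by omega) (ZMod.orderOf_dvd_card_sub_one (natCast_ne_zero hrq))
  omega

theorem one_le_q (hrq : ¬ r ∣ q) : 1 ≤ q := by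
  rcases Nat.eq_zero_or_pos q with h | h
  · exact absurd (h ▸ dvd_zero r) hrq
  · exact h

theorem dvd_pow_sub_one_iff (hrq : ¬ r ∣ q) (i : ℕ) :
    r ∣ q ^ i - 1 ↔ orderOf (q : ZMod r) ∣ i := by
  rw [← ZMod.natCast_eq_zero_iff, Nat.cast_sub (Nat.one_le_pow _ _ (one_le_q hrq)), Nat.cast_pow,
    Nat.cast_one, sub_eq_zero, orderOf_dvd_iff_pow_eq_one]

/-- The `r`-part of `x ^ j - 1` is that of `x - 1` for `r ∣ x - 1` and `0 < j < r`. -/
theorem val_pow_sub_one {x j : ℕ} (hx : 1 < x) (hrx : r ∣ x - 1) (hj : 0 < j) (hjr : j < r) :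
    padicValNat r (x ^ j - 1) = padicValNat r (x - 1) := by
  obtain ⟨y, rfl⟩ : ∃ y, x = y + 1 := ⟨x - 1, by omega⟩
  rw [Nat.add_sub_cancel] at hrx ⊢
  have h := geom_sum_mul_add y j
  rw [← h, Nat.add_sub_cancel]
  have hs : ¬ r ∣ ∑ i ∈ Finset.range j, (y + 1) ^ i := by
    rw [← ZMod.natCast_eq_zero_iff]
    push_cast
    rw [(ZMod.natCast_eq_zero_iff y r).2 hrx]
    simp only [zero_add, one_pow, Finset.sum_const, Finset.card_range, nsmul_eq_mul, mul_one]
    rw [ZMod.natCast_eq_zero_iff]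
    exact fun h => absurd (Nat.le_of_dvd hj h) (by omega)
  have h0 : ∑ i ∈ Finset.range j, (y + 1) ^ i ≠ 0 := fun h0 => hs (h0 ▸ dvd_zero r)
  rw [padicValNat.mul h0 (by omega), padicValNat.eq_zero_of_not_dvd hs, zero_add]

theorem val_q_pow (hq : 1 < q) (hrq : ¬ r ∣ q) {i : ℕ} (hi : 0 < i) (hir : i < r) :
    padicValNat r (q ^ i - 1) = if orderOf (q : ZMod r) ∣ i then
      padicValNat r (q ^ orderOf (q : ZMod r) - 1) else 0 := by
  by_cases h : orderOf (q : ZMod r) ∣ i
  · rw [if_pos h]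
    obtain ⟨j, rfl⟩ := h
    have hd := orderOf_pos_q hrq
    rw [pow_mul]
    refine val_pow_sub_one (Nat.one_lt_pow hd.ne' hq) ((dvd_pow_sub_one_iff hrq _).2 dvd_rfl)
      (Nat.pos_of_mul_pos_left hi) (lt_of_le_of_lt (Nat.le_mul_of_pos_left _ hd) hir)
  · rw [if_neg h]
    exact padicValNat.eq_zero_of_not_dvd fun h' => h ((dvd_pow_sub_one_iff hrq _).1 h')

/-- The exponent of the torus. -/
noncomputable def expo (q r : ℕ) : ℕ := padicValNat r (q ^ orderOf (q : ZMod r) - 1)

theorem val_prod (hq : 1 < q) (hrq : ¬ r ∣ q) : ∀ n : ℕ, n < r →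
    padicValNat r (∏ i ∈ Finset.range n, (q ^ (i + 1) - 1)) =
      n / orderOf (q : ZMod r) * expo q r
  | 0, _ => by simp
  | n + 1, hn => by
    rw [Finset.prod_range_succ, padicValNat.mul, val_prod hq hrq n (by omega),
      val_q_pow hq hrq (Nat.succ_pos n) hn, Nat.succ_div, add_mul]
    · congr 1
      split_ifs <;> simp [expo]
    · exact Finset.prod_ne_zero_iff.2 fun i _ => Nat.sub_ne_zero_of_lt (Nat.one_lt_pow i.succ_ne_zero hq)
    · exact Nat.sub_ne_zero_of_lt (Nat.one_lt_pow n.succ_ne_zero hq)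

theorem cyclotomic_val (hq : 1 < q) (hrq : ¬ r ∣ q) :
    padicValNat r ((Polynomial.cyclotomic (orderOf (q : ZMod r)) ℤ).eval (q : ℤ)).natAbs
      = expo q r := by
  set d := orderOf (q : ZMod r) with hd
  have hd0 : 0 < d := orderOf_pos_q hrq
  have key : ∀ e, 0 < e → ((Polynomial.cyclotomic e ℤ).eval (q : ℤ)).natAbs ∣ q ^ e - 1 := by
    intro e he
    have h1 := Polynomial.cyclotomic.dvd_X_pow_sub_one e ℤ
    have h2 := Int.natAbs_dvd_natAbs.2 (Polynomial.eval_dvd (x := (q : ℤ)) h1)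
    simp only [Polynomial.eval_sub, Polynomial.eval_pow, Polynomial.eval_X, Polynomial.eval_one] at h2
    rwa [show ((q : ℤ) ^ e - 1) = ((q ^ e - 1 : ℕ) : ℤ) by
      rw [Nat.cast_sub (Nat.one_le_pow _ _ (by omega))]; push_cast; ring, Int.natAbs_natCast] at h2
  have hne : q ^ d - 1 ≠ 0 := Nat.sub_ne_zero_of_lt (Nat.one_lt_pow hd0.ne' hq)
  have h := congrArg (Polynomial.eval (q : ℤ)) (Polynomial.prod_cyclotomic_eq_X_pow_sub_one hd0 ℤ)
  rw [← Nat.cons_self_properDivisors hd0.ne', Finset.prod_cons, Polynomial.eval_mul,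
    Polynomial.eval_prod] at h
  simp only [Polynomial.eval_sub, Polynomial.eval_pow, Polynomial.eval_X, Polynomial.eval_one] at h
  rw [show ((q : ℤ) ^ d - 1) = ((q ^ d - 1 : ℕ) : ℤ) by
    rw [Nat.cast_sub (Nat.one_le_pow _ _ (by omega))]; push_cast; ring] at h
  have h' := congrArg Int.natAbs h
  rw [Int.natAbs_mul, Int.natAbs_natCast] at h'
  set B := (∏ e ∈ d.properDivisors, (Polynomial.cyclotomic e ℤ).eval (q : ℤ)).natAbs with hB
  have hB' : B = ∏ e ∈ d.properDivisors, ((Polynomial.cyclotomic e ℤ).eval (q : ℤ)).natAbs := by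
    rw [hB]; exact map_prod Int.natAbsHom _ _
  have hrB : ¬ r ∣ B := by
    rw [hB', hr.out.prime.dvd_finsetProd_iff]
    rintro ⟨e, he, hre⟩
    rw [Nat.mem_properDivisors] at he
    have he0 : 0 < e := Nat.pos_of_dvd_of_pos he.1 hd0
    have := Nat.le_of_dvd he0 ((dvd_pow_sub_one_iff hrq e).1 (hre.trans (key e he0)))
    omega
  have hA : ((Polynomial.cyclotomic d ℤ).eval (q : ℤ)).natAbs ≠ 0 := fun h0 => hne (by
    rw [← h', h0, zero_mul])
  rw [expo, ← hd, ← h', padicValNat.mul hA (fun h0 => hrB (by rw [h0]; exact dvd_zero r)),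
    padicValNat.eq_zero_of_not_dvd hrB, add_zero]

theorem card_filter_dvd {d : ℕ} (hd : 1 < d) (n : ℕ) :
    ((Finset.Icc 2 n).filter (fun i => d ∣ i)).card = n / d := by
  rw [← Nat.Ioc_filter_dvd_card_eq_div n d]
  congr 1
  ext i
  simp only [Finset.mem_filter, Finset.mem_Icc, Finset.mem_Ioc]
  constructor
  · rintro ⟨⟨h1, h2⟩, h3⟩; exact ⟨⟨by omega, h2⟩, h3⟩
  · rintro ⟨⟨h1, h2⟩, h3⟩
    exact ⟨⟨by have := Nat.le_of_dvd h1 h3; omega, h2⟩, h3⟩

theorem card_filter_dvd_one {d : ℕ} (hd : d = 1) (n : ℕ) :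
    ((Finset.Icc 2 n).filter (fun i => d ∣ i)).card = n - 1 := by
  subst hd
  simp

end Arith

/-- An injective homomorphism from a group of the order of a Sylow subgroup. -/
theorem sylow_iso {G A : Type*} [Group G] [Finite G] [Group A] {r : ℕ} [Fact r.Prime]
    (φ : A →* G) (hφ : Function.Injective φ)
    (hA : Nat.card A = r ^ padicValNat r (Nat.card G)) (P : Sylow r G) :
    Nonempty (↥(P : Subgroup G) ≃* A) := by
  let Q : Sylow r G := Sylow.ofCard φ.range (by
    rw [← Nat.card_congr (MonoidHom.ofInjective hφ).toEquiv, hA, Nat.factorization_def _ Fact.out])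
  exact ⟨(Sylow.equiv P Q).trans (MonoidHom.ofInjective hφ).symm⟩

theorem card_homocyclic (k m : ℕ) [NeZero m] :
    Nat.card (Fin k → Multiplicative (ZMod m)) = m ^ k := by
  rw [Nat.card_fun, Nat.card_fin, Nat.card_congr Multiplicative.toAdd, Nat.card_zmod]

theorem exists_cyclic_hom {U : Type*} [Group U] [IsCyclic U] [Finite U] {m : ℕ}
    (hm : m ∣ Nat.card U) :
    ∃ c : Multiplicative (ZMod m) →* U, Function.Injective c := by
  obtain ⟨g, hg⟩ := IsCyclic.exists_ofOrder_eq_natCard (α := U)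
  have hm0 : m ≠ 0 := fun h => Nat.card_pos.ne' (Nat.eq_zero_of_zero_dvd (h ▸ hm))
  have horder : orderOf (g ^ (Nat.card U / m)) = m := by
    rw [orderOf_pow' g (Nat.div_ne_zero_iff_of_dvd hm |>.2 ⟨Nat.card_pos.ne', hm0⟩), hg,
      Nat.gcd_eq_right (Nat.div_dvd_of_dvd hm), Nat.div_div_self hm Nat.card_pos.ne']
  have hc : Nat.card (Subgroup.zpowers (g ^ (Nat.card U / m))) = m := by
    rw [Nat.card_zpowers, horder]
  let e := zmodCyclicMulEquiv (G := Subgroup.zpowers (g ^ (Nat.card U / m))) inferInstance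
  refine ⟨(Subgroup.zpowers (g ^ (Nat.card U / m))).subtype.comp
    ((e.toMonoidHom).comp (MulEquiv.cast (M := fun i : ℕ => Multiplicative (ZMod i)) hc.symm).toMonoidHom), ?_⟩
  intro x y h
  exact (MulEquiv.cast (M := fun i : ℕ => Multiplicative (ZMod i)) hc.symm).injective
    (e.injective (Subtype.val_injective h))

variable {F : Type*} [Field F] [Finite F] {r : ℕ} [hr : Fact r.Prime]

theorem one_lt_q : 1 < Nat.card F := Finite.one_lt_card

theorem val_card_GL {n : ℕ} (hn : n < r) (hrq : ¬ r ∣ Nat.card F) :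
    padicValNat r (Nat.card (GL (Fin n) F)) =
      n / orderOf (Nat.card F : ZMod r) * expo (Nat.card F) r := by
  have hq : 1 < Nat.card F := one_lt_q
  have h1 : Nat.card F ^ (n * (n - 1) / 2) ≠ 0 := pow_ne_zero _ (by omega)
  rw [GLOrder.card_GL', padicValNat.mul h1, val_prod hq hrq n hn,
    padicValNat.eq_zero_of_not_dvd (fun h => hrq (hr.out.dvd_of_dvd_pow h)), zero_add]
  exact Finset.prod_ne_zero_iff.2 fun i _ => Nat.sub_ne_zero_of_lt (Nat.one_lt_pow i.succ_ne_zero hq)

theorem exists_torus_hom (n d k : ℕ) [NeZero d] (hk : k * d ≤ n) {m : ℕ}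
    (hm : m ∣ Nat.card F ^ d - 1) :
    ∃ φ : (Fin k → Multiplicative (ZMod m)) →* GL (Fin n) F, Function.Injective φ := by
  obtain ⟨p, hp⟩ := CharP.exists F
  haveI : Fact p.Prime := ⟨CharP.char_is_prime F p⟩
  let K := FiniteField.Extension F p d
  obtain ⟨c, hc⟩ : ∃ c : Multiplicative (ZMod m) →* Kˣ, Function.Injective c := by
    refine exists_cyclic_hom ?_
    rw [Nat.card_units, FiniteField.natCard_extension F p d]
    exact hm
  let A := (Fin k → K) × (Fin (n - k * d) → F)
  let e : (Fin k → Multiplicative (ZMod m)) →* Aˣ := MonoidHom.toHomUnits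
    { toFun := fun x => (fun i => ((c (x i) : Kˣ) : K), 1)
      map_one' := by simp only [Pi.one_apply, map_one, Units.val_one]; rfl
      map_mul' := fun x y => Prod.ext (funext fun i =>
        show ((c (x i * y i) : Kˣ) : K) = ((c (x i) : Kˣ) : K) * ((c (y i) : Kˣ) : K) by
          rw [map_mul, Units.val_mul]) (one_mul _).symm }
  have he : Function.Injective e := fun x y h => by
    funext i
    exact hc (Units.ext (congrFun (congrArg (fun u : Aˣ => (u : A).1) h) i))
  have hfin : Module.finrank F A = n := by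
    rw [Module.finrank_prod, Module.finrank_pi_fintype, Module.finrank_fin_fun]
    simp only [K, FiniteField.finrank_extension, Finset.sum_const, Finset.card_univ, Fintype.card_fin,
      smul_eq_mul]
    omega
  let b := Module.finBasisOfFinrankEq F A hfin
  refine ⟨(Units.map (Algebra.leftMulMatrix b).toRingHom.toMonoidHom).comp e,
    fun x y h => he (Units.ext (Algebra.leftMulMatrix_injective b (congrArg Units.val h)))⟩

theorem expo_dvd (q : ℕ) : r ^ expo q r ∣ q ^ orderOf (q : ZMod r) - 1 :=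
  pow_padicValNat_dvd

theorem sylow_GL_iso {n : ℕ} (hn : n < r) (hrq : ¬ r ∣ Nat.card F) (P : Sylow r (GL (Fin n) F)) :
    Nonempty (↥(P : Subgroup (GL (Fin n) F)) ≃*
      (Fin (n / orderOf (Nat.card F : ZMod r)) →
        Multiplicative (ZMod (r ^ expo (Nat.card F) r)))) := by
  haveI : NeZero (orderOf (Nat.card F : ZMod r)) := ⟨(orderOf_pos_q hrq).ne'⟩
  haveI : NeZero (r ^ expo (Nat.card F) r) := ⟨pow_ne_zero _ hr.out.ne_zero⟩
  obtain ⟨φ, hφ⟩ := exists_torus_hom (F := F) n (orderOf (Nat.card F : ZMod r))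
    (n / orderOf (Nat.card F : ZMod r)) (Nat.div_mul_le_self _ _) (expo_dvd (Nat.card F))
  refine sylow_iso φ hφ ?_ P
  rw [card_homocyclic, val_card_GL hn hrq, ← pow_mul, mul_comm]

theorem sylow_SL_iso {n : ℕ} (hn : n < r) (hrq : ¬ r ∣ Nat.card F)
    (P : Sylow r (SpecialLinearGroup (Fin n) F)) :
    Nonempty (↥(P : Subgroup (SpecialLinearGroup (Fin n) F)) ≃*
      (Fin ((Finset.Icc 2 n).filter (fun i => orderOf (Nat.card F : ZMod r) ∣ i)).card →
        Multiplicative (ZMod (r ^ expo (Nat.card F) r)))) := by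
  classical
  haveI : Fintype F := Fintype.ofFinite F
  haveI : NeZero (r ^ expo (Nat.card F) r) := ⟨pow_ne_zero _ hr.out.ne_zero⟩
  have hd0 := orderOf_pos_q hrq
  have hq : 1 < Nat.card F := one_lt_q
  rcases n with _ | n
  · haveI : Subsingleton (SpecialLinearGroup (Fin 0) F) := ⟨fun a b => Subtype.ext (Subsingleton.elim _ _)⟩
    refine sylow_iso 1 (fun x y _ => ?_) ?_ P
    · funext i; exact absurd i.2 (by simp)
    · rw [card_homocyclic, Nat.card_eq_one_iff_unique.2
        ⟨(inferInstance : Subsingleton (SpecialLinearGroup (Fin 0) F)), ⟨1⟩⟩]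
      simp
  have hval : padicValNat r (Nat.card F - 1) + padicValNat r (Nat.card (SpecialLinearGroup (Fin (n + 1)) F))
      = (n + 1) / orderOf (Nat.card F : ZMod r) * expo (Nat.card F) r := by
    rw [← val_card_GL hn hrq, ← GLOrder.card_SL_mul, padicValNat.mul (by omega) Nat.card_pos.ne']
  rcases eq_or_lt_of_le (Nat.succ_le_of_lt hd0) with h1 | h1
  · -- `d = 1`
    have hd : orderOf (Nat.card F : ZMod r) = 1 := h1.symm
    have hexp : expo (Nat.card F) r = padicValNat r (Nat.card F - 1) := by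
      rw [expo, hd, pow_one]
    rw [hd, Nat.div_one, ← hexp, Nat.succ_mul] at hval
    obtain ⟨c, hc⟩ : ∃ c : Multiplicative (ZMod (r ^ expo (Nat.card F) r)) →* Fˣ, Function.Injective c := by
      refine exists_cyclic_hom ?_
      rw [Nat.card_units, hexp]
      exact pow_padicValNat_dvd
    rw [card_filter_dvd_one hd, Nat.add_sub_cancel]
    let v : (Fin n → Multiplicative (ZMod (r ^ expo (Nat.card F) r))) → Fin (n + 1) → F :=
      fun x => Fin.cons (((∏ i, c (x i))⁻¹ : Fˣ) : F) fun i => ((c (x i) : Fˣ) : F)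
    have hdet : ∀ x, (diagonal (v x)).det = 1 := fun x => by
      rw [det_diagonal, Fin.prod_univ_succ]
      simp only [v, Fin.cons_zero, Fin.cons_succ]
      rw [← Units.coe_prod, ← Units.val_mul, inv_mul_cancel, Units.val_one]
    have hv : ∀ x y i, v (x * y) i = v x i * v y i := by
      intro x y i
      refine Fin.cases ?_ (fun i => ?_) i
      · simp [v, Finset.prod_mul_distrib, mul_comm]
      · simp [v]
    let φ : (Fin n → Multiplicative (ZMod (r ^ expo (Nat.card F) r))) →*
        SpecialLinearGroup (Fin (n + 1)) F :=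
      MonoidHom.mk' (fun x => ⟨diagonal (v x), hdet x⟩) fun x y => Subtype.ext (by
        show diagonal (v (x * y)) = diagonal (v x) * diagonal (v y)
        rw [diagonal_mul_diagonal]
        exact congrArg diagonal (funext (hv x y)))
    refine sylow_iso φ (fun x y h => ?_) ?_ P
    · funext i
      refine hc (Units.ext ?_)
      have := congrFun (diagonal_injective (congrArg Subtype.val h : diagonal (v x) = diagonal (v y))) i.succ
      simpa [v] using this
    · rw [card_homocyclic, ← pow_mul, mul_comm (expo _ _) n]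
      congr 1
      omega
  · haveI : NeZero (orderOf (Nat.card F : ZMod r)) := ⟨hd0.ne'⟩
    have h0 : ¬ r ∣ Nat.card F - 1 := fun h => by
      have := (dvd_pow_sub_one_iff hrq 1).1 (by rwa [pow_one])
      rw [Nat.dvd_one] at this
      omega
    rw [padicValNat.eq_zero_of_not_dvd h0, zero_add] at hval
    rw [card_filter_dvd h1]
    obtain ⟨φ, hφ⟩ := exists_torus_hom (F := F) (n + 1) (orderOf (Nat.card F : ZMod r))
      ((n + 1) / orderOf (Nat.card F : ZMod r)) (Nat.div_mul_le_self _ _) (expo_dvd (Nat.card F))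
    have hdet : ∀ x, (φ x : Matrix (Fin (n + 1)) (Fin (n + 1)) F).det = 1 := by
      intro x
      have h1' : GeneralLinearGroup.det (φ x) = 1 := by
        rw [← orderOf_eq_one_iff]
        have ha : orderOf (GeneralLinearGroup.det (φ x)) ∣ Nat.card F - 1 := by
          rw [← Nat.card_units]; exact orderOf_dvd_natCard _
        have hb : orderOf (GeneralLinearGroup.det (φ x)) ∣ r ^ expo (Nat.card F) r := by
          refine orderOf_dvd_of_pow_eq_one ?_
          rw [← map_pow, ← map_pow, show x ^ r ^ expo (Nat.card F) r = 1 from funext fun i => by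
            rw [Pi.pow_apply, Pi.one_apply]
            have h := pow_card_eq_one' (x := x i)
            rwa [Nat.card_congr Multiplicative.toAdd, Nat.card_zmod] at h, map_one, map_one]
        exact Nat.eq_one_of_dvd_coprimes
          ((Nat.Coprime.pow_left _ ((hr.out.coprime_iff_not_dvd).2 h0))) hb ha
      have := congrArg Units.val h1'
      simpa using this
    let ψ : (Fin ((n + 1) / orderOf (Nat.card F : ZMod r)) →
        Multiplicative (ZMod (r ^ expo (Nat.card F) r))) →* SpecialLinearGroup (Fin (n + 1)) F :=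
      MonoidHom.mk' (fun x => ⟨(φ x : Matrix (Fin (n + 1)) (Fin (n + 1)) F), hdet x⟩) fun x y =>
        Subtype.ext (by show (φ (x * y) : Matrix (Fin (n + 1)) (Fin (n + 1)) F) = _ * _; rw [map_mul]; rfl)
    refine sylow_iso ψ (fun x y h => hφ (Units.ext (congrArg Subtype.val h))) ?_ P
    rw [card_homocyclic, hval, ← pow_mul, mul_comm]

end Cfsg.Agent.SylowTorus
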