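import Cfsg.Agent.EqLemmas
import Cfsg.Agent.Lib.SylowTorus.GL
import Cfsg.Agent.Lib.GLOrder.Symplectic
import Cfsg.Agent.Lib.GLOrder.Torus

/-!
Sylow `r`-subgroups of `Sp_{2n}(q)` for odd `r > n` not dividing `q`, realised inside
`SL_2` of a product of fields, embedded in the symplectic group by restriction of scalars.
-/

set_option autoImplicit false

namespace Cfsg.Agent.SylowTorus

open Matrix

section RestrictScalars

variable {F A : Type*} [Field F] [CommRing A] [Algebra F A] {n : ℕ}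

/-- The Gram matrix of the bilinear form `(x, y) ↦ τ (x * y)`. -/
noncomputable def gram (b : Module.Basis (Fin n) F A) (τ : A →ₗ[F] F) : Matrix (Fin n) (Fin n) F :=
  Matrix.of fun i j => τ (b i * b j)

theorem gram_transpose (b : Module.Basis (Fin n) F A) (τ : A →ₗ[F] F) : (gram b τ)ᵀ = gram b τ := by
  ext i j; simp [gram, mul_comm]

theorem gram_adjoint (b : Module.Basis (Fin n) F A) (τ : A →ₗ[F] F) (x : A) :
    (Algebra.leftMulMatrix b x)ᵀ * gram b τ = gram b τ * Algebra.leftMulMatrix b x := by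
  ext i j
  simp only [Matrix.mul_apply, transpose_apply, gram, Matrix.of_apply,
    Algebra.leftMulMatrix_eq_repr_mul]
  have h1 : ∑ l, b.repr (x * b i) l * τ (b l * b j) = τ (x * b i * b j) := by
    conv_rhs => rw [← b.sum_repr (x * b i)]
    rw [Finset.sum_mul, map_sum]
    exact Finset.sum_congr rfl fun l _ => by rw [smul_mul_assoc, map_smul, smul_eq_mul]
  have h2 : ∑ l, τ (b i * b l) * b.repr (x * b j) l = τ (b i * (x * b j)) := by
    conv_rhs => rw [← b.sum_repr (x * b j)]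
    rw [Finset.mul_sum, map_sum]
    exact Finset.sum_congr rfl fun l _ => by rw [mul_smul_comm, map_smul, smul_eq_mul, mul_comm]
  rw [h1, h2]
  congr 1
  ring

theorem gram_det_ne_zero (b : Module.Basis (Fin n) F A) (τ : A →ₗ[F] F)
    (hτ : ∀ x, (∀ y, τ (x * y) = 0) → x = 0) : (gram b τ).det ≠ 0 := by
  intro h0
  obtain ⟨v, hv, hmv⟩ := Matrix.exists_mulVec_eq_zero_iff.2 h0
  have hs : ∀ i, τ ((∑ j, v j • b j) * b i) = 0 := fun i => by
    rw [Finset.sum_mul, map_sum]
    have h := congrFun hmv i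
    simp only [mulVec, dotProduct, gram, Matrix.of_apply, Pi.zero_apply] at h
    rw [← h]
    exact Finset.sum_congr rfl fun j _ => by
      rw [smul_mul_assoc, map_smul, smul_eq_mul, mul_comm (b j), mul_comm (v j)]
  have hx : (∑ j, v j • b j) = 0 := hτ _ fun y => by
    rw [← b.sum_repr y, Finset.mul_sum, map_sum]
    exact Finset.sum_eq_zero fun i _ => by rw [mul_smul_comm, map_smul, hs i, smul_zero]
  exact hv (funext fun j => Fintype.linearIndependent_iff.1 b.linearIndependent v hx j)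

/-- Restriction of scalars embeds `SL_2(A)` into `Sp_{2n}(F)`. -/
theorem exists_sl2_hom_neg (b : Module.Basis (Fin n) F A) (τ : A →ₗ[F] F)
    (hτ : ∀ x, (∀ y, τ (x * y) = 0) → x = 0) :
    ∃ φ : SpecialLinearGroup (Fin 2) A →* Matrix.symplecticGroup (Fin n) F, Function.Injective φ ∧
      ∀ g : SpecialLinearGroup (Fin 2) A, g.1 = -1 → (φ g).1 = -1 := by
  have hu : IsUnit (gram b τ).det := isUnit_iff_ne_zero.2 (gram_det_ne_zero b τ hτ)
  have hT : (gram b τ)ᵀ = gram b τ := gram_transpose b τ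
  set T := gram b τ with hTdef
  let L := Algebra.leftMulMatrix b
  have hL : ∀ x, (L x)ᵀ = T * L x * T⁻¹ := fun x => by
    rw [← gram_adjoint b τ x, Matrix.mul_nonsing_inv_cancel_right _ _ hu]
  have hTi : (T⁻¹)ᵀ = T⁻¹ := by rw [transpose_nonsing_inv, hT]
  let M : Matrix (Fin 2) (Fin 2) A → Matrix (Fin n ⊕ Fin n) (Fin n ⊕ Fin n) F := fun g =>
    fromBlocks (L (g 0 0)) (L (g 0 1) * T⁻¹) (T * L (g 1 0)) (T * L (g 1 1) * T⁻¹)
  have hc : ∀ X : Matrix (Fin n) (Fin n) F, T⁻¹ * (T * X) = X := fun X =>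
    Matrix.nonsing_inv_mul_cancel_left _ _ hu
  have hc' : ∀ X : Matrix (Fin n) (Fin n) F, T * (T⁻¹ * X) = X := fun X =>
    Matrix.mul_nonsing_inv_cancel_left _ _ hu
  have hmem : ∀ g : SpecialLinearGroup (Fin 2) A, M g.1 ∈ Matrix.symplecticGroup (Fin n) F := by
    intro g
    have hdet : g.1 0 0 * g.1 1 1 - g.1 0 1 * g.1 1 0 = 1 := by rw [← det_fin_two]; exact g.2
    rw [SymplecticGroup.mem_iff, Matrix.J, fromBlocks_transpose, fromBlocks_multiply,
      fromBlocks_multiply]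
    simp only [Matrix.mul_zero, Matrix.mul_one, zero_add, add_zero, Matrix.mul_neg, Matrix.neg_mul,
      transpose_mul, hL, hTi, hT, Matrix.mul_assoc, hc, hc', Matrix.nonsing_inv_mul T hu,
      Matrix.mul_nonsing_inv T hu, Matrix.mul_one]
    simp only [← Matrix.mul_assoc, ← map_mul]
    have e1 : g.1 0 1 * g.1 0 0 = g.1 0 0 * g.1 0 1 := mul_comm _ _
    have e2 : g.1 1 1 * g.1 1 0 = g.1 1 0 * g.1 1 1 := mul_comm _ _
    rw [fromBlocks_inj]
    refine ⟨?_, ?_, ?_, ?_⟩
    · rw [e1]; abel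
    · rw [← map_neg, ← map_add, ← map_one L, ← map_neg L 1]
      congr 1
      linear_combination -hdet
    · rw [← sub_eq_add_neg, ← Matrix.sub_mul, ← Matrix.mul_sub, ← map_sub,
        show g.1 1 1 * g.1 0 0 - g.1 1 0 * g.1 0 1 = 1 by linear_combination hdet, map_one,
        Matrix.mul_one, Matrix.mul_nonsing_inv T hu]
    · rw [e2]; abel
  have hone : M (1 : Matrix (Fin 2) (Fin 2) A) = 1 := by
    simp only [M, one_apply_eq, ne_eq, zero_ne_one, not_false_eq_true, one_apply_ne, one_ne_zero,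
      map_one, map_zero, Matrix.zero_mul, Matrix.mul_zero, Matrix.mul_one, Matrix.mul_nonsing_inv T hu,
      fromBlocks_one]
  have hmul : ∀ g h : Matrix (Fin 2) (Fin 2) A, M (g * h) = M g * M h := by
    intro g h
    simp only [M, fromBlocks_multiply, Matrix.mul_apply, Fin.sum_univ_two, map_add, map_mul,
      Matrix.add_mul, Matrix.mul_add, Matrix.mul_assoc, hc, hc']
  refine ⟨{ toFun := fun g => ⟨M g.1, hmem g⟩
            map_one' := Subtype.ext hone
            map_mul' := fun g h => Subtype.ext (hmul g.1 h.1) }, fun g h hgh => ?_, fun g hg => ?_⟩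
  swap
  · show M g.1 = -1
    rw [hg]
    simp only [M, Matrix.neg_apply, one_apply_eq, ne_eq, zero_ne_one, not_false_eq_true, one_apply_ne,
      one_ne_zero, neg_zero, map_neg, map_one, map_zero, Matrix.zero_mul, Matrix.mul_zero, Matrix.neg_mul,
      Matrix.mul_neg, Matrix.mul_one, Matrix.mul_nonsing_inv T hu]
    rw [← fromBlocks_one, fromBlocks_neg]
    simp only [neg_zero]
  have h' : M g.1 = M h.1 := congrArg Subtype.val hgh
  simp only [M, fromBlocks_inj] at h'
  obtain ⟨h00, h01, h10, h11⟩ := h'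
  have k01 := congrArg (· * T) h01
  have k10 := congrArg (T⁻¹ * ·) h10
  have k11 := congrArg (fun X => T⁻¹ * (X * T)) h11
  simp only [Matrix.mul_assoc, Matrix.nonsing_inv_mul T hu, Matrix.mul_one, hc] at k01 k10 k11
  have hinj := Algebra.leftMulMatrix_injective b
  refine Subtype.ext (Matrix.ext fun i j => ?_)
  fin_cases i <;> fin_cases j
  · exact hinj h00
  · exact hinj k01
  · exact hinj k10
  · exact hinj k11

theorem exists_sl2_hom (b : Module.Basis (Fin n) F A) (τ : A →ₗ[F] F)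
    (hτ : ∀ x, (∀ y, τ (x * y) = 0) → x = 0) :
    ∃ φ : SpecialLinearGroup (Fin 2) A →* Matrix.symplecticGroup (Fin n) F, Function.Injective φ :=
  let ⟨φ, hφ, _⟩ := exists_sl2_hom_neg b τ hτ
  ⟨φ, hφ⟩

end RestrictScalars

section Arith

variable {q r : ℕ} [hr : Fact r.Prime]

theorem val_pow_sub_one' {x j : ℕ} (hx : 1 < x) (hrx : r ∣ x - 1) (hj : 0 < j) (hjr : ¬ r ∣ j) :
    padicValNat r (x ^ j - 1) = padicValNat r (x - 1) := by
  obtain ⟨y, rfl⟩ : ∃ y, x = y + 1 := ⟨x - 1, by omega⟩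
  rw [Nat.add_sub_cancel] at hrx ⊢
  have h := geom_sum_mul_add y j
  rw [← h, Nat.add_sub_cancel]
  have hs : ¬ r ∣ ∑ i ∈ Finset.range j, (y + 1) ^ i := by
    rw [← ZMod.natCast_eq_zero_iff]
    push_cast
    rw [(ZMod.natCast_eq_zero_iff y r).2 hrx]
    simpa [ZMod.natCast_eq_zero_iff] using hjr
  have h0 : ∑ i ∈ Finset.range j, (y + 1) ^ i ≠ 0 := fun h0 => hs (by rw [h0]; exact dvd_zero r)
  rw [padicValNat.mul h0 (by omega), padicValNat.eq_zero_of_not_dvd hs, zero_add]

/-- Half of the order of `q` when this is even. -/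
theorem exists_half (hq : 1 < q) (hr2 : r ≠ 2) (hrq : ¬ r ∣ q) :
    ∃ e, 0 < e ∧ (∀ i, orderOf (q : ZMod r) ∣ 2 * i ↔ e ∣ i) ∧
      (r ^ expo q r ∣ q ^ e - 1 ∨ r ^ expo q r ∣ q ^ e + 1) := by
  have hd0 := orderOf_pos_q hrq
  rcases Nat.even_or_odd (orderOf (q : ZMod r)) with ⟨e, he⟩ | hodd
  · refine ⟨e, by omega, fun i => ?_, Or.inr ?_⟩
    · rw [he, ← two_mul, Nat.mul_dvd_mul_iff_left two_pos]
    · have h : ¬ r ∣ q ^ e - 1 := fun h => by
        have := Nat.le_of_dvd (by omega) ((dvd_pow_sub_one_iff hrq e).1 h)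
        omega
      have h2 : q ^ orderOf (q : ZMod r) - 1 = (q ^ e + 1) * (q ^ e - 1) := by
        rw [he, pow_add, ← GLOrder.sq_sub_one, sq]
      refine Nat.Coprime.dvd_of_dvd_mul_right
        (Nat.Coprime.pow_left _ ((hr.out.coprime_iff_not_dvd).2 h)) ?_
      rw [← h2]
      exact expo_dvd q
  · exact ⟨_, hd0, fun i => ⟨fun h => (Nat.coprime_two_right.2 hodd).dvd_of_dvd_mul_left h,
      fun h => Dvd.dvd.mul_left h 2⟩, Or.inl (expo_dvd q)⟩

theorem val_q_two (hq : 1 < q) (hr2 : r ≠ 2) (hrq : ¬ r ∣ q) {i : ℕ} (hi : 0 < i) (hir : i < r)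
    {e : ℕ} (he : ∀ i, orderOf (q : ZMod r) ∣ 2 * i ↔ e ∣ i) :
    padicValNat r (q ^ (2 * i) - 1) = if e ∣ i then expo q r else 0 := by
  by_cases h : e ∣ i
  · rw [if_pos h]
    obtain ⟨j, hj⟩ := (he i).2 h
    have hd := orderOf_pos_q hrq
    rw [hj, pow_mul]
    refine val_pow_sub_one' (Nat.one_lt_pow hd.ne' hq) ((dvd_pow_sub_one_iff hrq _).2 dvd_rfl)
      (Nat.pos_of_ne_zero fun h0 => by rw [h0, mul_zero] at hj; omega) fun hrj => ?_
    have h2 : r ∣ 2 * i := hj ▸ hrj.mul_left _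
    rcases hr.out.dvd_mul.1 h2 with h2 | h2
    · exact hr2 ((Nat.prime_dvd_prime_iff_eq hr.out Nat.prime_two).1 h2)
    · have := Nat.le_of_dvd hi h2; omega
  · rw [if_neg h]
    exact padicValNat.eq_zero_of_not_dvd fun h' => h ((he i).1 ((dvd_pow_sub_one_iff hrq _).1 h'))

theorem val_prod_two (hq : 1 < q) (hr2 : r ≠ 2) (hrq : ¬ r ∣ q) {e : ℕ}
    (he : ∀ i, orderOf (q : ZMod r) ∣ 2 * i ↔ e ∣ i) : ∀ n : ℕ, n < r →
    padicValNat r (∏ i ∈ Finset.range n, (q ^ (2 * (i + 1)) - 1)) = n / e * expo q r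
  | 0, _ => by simp
  | n + 1, hn => by
    rw [Finset.prod_range_succ, padicValNat.mul, val_prod_two hq hr2 hrq he n (by omega),
      val_q_two hq hr2 hrq (Nat.succ_pos n) hn he, Nat.succ_div, add_mul]
    · congr 1
      split_ifs <;> simp
    · exact Finset.prod_ne_zero_iff.2 fun i _ => Nat.sub_ne_zero_of_lt (Nat.one_lt_pow (by omega) hq)
    · exact Nat.sub_ne_zero_of_lt (Nat.one_lt_pow (by omega) hq)

theorem card_filter_two {d e : ℕ} (he : ∀ i, d ∣ 2 * i ↔ e ∣ i) (n : ℕ) :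
    ((Finset.Icc 1 n).filter (fun i => d ∣ 2 * i)).card = n / e := by
  rw [← Nat.Ioc_filter_dvd_card_eq_div n e]
  congr 1
  ext i
  simp only [Finset.mem_filter, Finset.mem_Icc, Finset.mem_Ioc, he]
  omega

end Arith

variable {F : Type*} [Field F] [Finite F] {r : ℕ} [hr : Fact r.Prime]

theorem exists_sp_torus_hom (n e k : ℕ) [NeZero e] (hk : k * e ≤ n) {m : ℕ}
    (hm : m ∣ Nat.card F ^ e - 1 ∨ m ∣ Nat.card F ^ e + 1) :
    ∃ φ : (Fin k → Multiplicative (ZMod m)) →* Matrix.symplecticGroup (Fin n) F,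
      Function.Injective φ := by
  obtain ⟨p, hp⟩ := CharP.exists F
  haveI : Fact p.Prime := ⟨CharP.char_is_prime F p⟩
  let K := FiniteField.Extension F p e
  obtain ⟨c, hc⟩ : ∃ c : Multiplicative (ZMod m) →* SpecialLinearGroup (Fin 2) K,
      Function.Injective c := by
    rw [← FiniteField.natCard_extension F p e] at hm
    obtain ⟨g, hg⟩ := GLOrder.exists_orderOf_SL_two (F := K) hm
    obtain ⟨c, hc⟩ := exists_cyclic_hom (U := Subgroup.zpowers g) (m := m)
      (by rw [Nat.card_zpowers, hg])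
    exact ⟨(Subgroup.zpowers g).subtype.comp c, (Subgroup.subtype_injective _).comp hc⟩
  have hfin : Module.finrank F ((Fin k → K) × (Fin (n - k * e) → F)) = n := by
    rw [Module.finrank_prod, Module.finrank_pi_fintype, Module.finrank_fin_fun]
    simp only [K, FiniteField.finrank_extension, Finset.sum_const, Finset.card_univ, Fintype.card_fin,
      smul_eq_mul]
    omega
  let b := Module.finBasisOfFinrankEq F ((Fin k → K) × (Fin (n - k * e) → F)) hfin
  obtain ⟨l, hl⟩ : ∃ l : K →ₗ[F] F, l 1 = 1 :=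
    Module.Projective.exists_dual_eq_one F (one_ne_zero : (1 : K) ≠ 0)
  let τ : ((Fin k → K) × (Fin (n - k * e) → F)) →ₗ[F] F :=
    { toFun := fun x => (∑ i, l (x.1 i)) + ∑ i, x.2 i
      map_add' := fun x y => by
        show (∑ i, l (x.1 i + y.1 i)) + ∑ i, (x.2 i + y.2 i) = _
        simp only [map_add, Finset.sum_add_distrib]
        abel
      map_smul' := fun a x => by
        show (∑ i, l (a • x.1 i)) + ∑ i, a • x.2 i = a • ((∑ i, l (x.1 i)) + ∑ i, x.2 i)
        simp only [map_smul, smul_add, Finset.smul_sum] }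
  have hτ : ∀ x, (∀ y, τ (x * y) = 0) → x = 0 := by
    intro x hx
    refine Prod.ext (funext fun i => ?_) (funext fun i => ?_)
    · by_contra h
      have h' : x.1 i ≠ 0 := h
      have h1 : (∑ t, l (x.1 t * (Pi.single i (x.1 i)⁻¹ : Fin k → K) t)) + ∑ t, x.2 t * 0 = 0 :=
        hx (Pi.single i (x.1 i)⁻¹, 0)
      rw [Finset.sum_eq_single i (fun j _ hj => by rw [Pi.single_eq_of_ne hj, mul_zero, map_zero])
        (by simp), Pi.single_eq_same, mul_inv_cancel₀ h', hl] at h1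
      simp at h1
    · by_contra h
      have h' : x.2 i ≠ 0 := h
      have h1 : (∑ t, l (x.1 t * 0)) + ∑ t, x.2 t * (Pi.single i (x.2 i)⁻¹ : Fin (n - k * e) → F) t = 0 :=
        hx (0, Pi.single i (x.2 i)⁻¹)
      rw [Finset.sum_eq_single (f := fun t => x.2 t * _) i
        (fun j _ hj => by rw [Pi.single_eq_of_ne hj, mul_zero])
        (by simp), Pi.single_eq_same, mul_inv_cancel₀ h'] at h1
      simp at h1
  obtain ⟨ψ, hψ⟩ := exists_sl2_hom b τ hτ
  let G2 : (Fin k → Multiplicative (ZMod m)) → Matrix (Fin 2) (Fin 2) ((Fin k → K) × (Fin (n - k * e) → F)) := fun x => Matrix.of fun i j =>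
    (fun t => (c (x t)).1 i j, (1 : Matrix (Fin 2) (Fin 2) (Fin (n - k * e) → F)) i j)
  have hG2 : ∀ x, (G2 x).det = 1 := fun x => by
    rw [det_fin_two]
    refine Prod.ext (funext fun t => ?_) (by simp [G2])
    have := (c (x t)).2
    rw [det_fin_two] at this
    simpa [G2] using this
  let χ : (Fin k → Multiplicative (ZMod m)) →* SpecialLinearGroup (Fin 2) ((Fin k → K) × (Fin (n - k * e) → F)) :=
    MonoidHom.mk' (fun x => ⟨G2 x, hG2 x⟩) fun x y => Subtype.ext (by
      show G2 (x * y) = G2 x * G2 y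
      ext i j
      · simp [G2, Matrix.mul_apply, Fin.sum_univ_two]
      · fin_cases i <;> fin_cases j <;> simp [G2, Matrix.mul_apply, Fin.sum_univ_two])
  exact ⟨ψ.comp χ, hψ.comp fun x y h => funext fun t => hc (Subtype.ext (Matrix.ext fun i j =>
    congrFun (congrArg Prod.fst (congrFun (congrFun (congrArg Subtype.val h) i) j)) t))⟩

theorem sylow_Sp_iso {n : ℕ} (hr2 : r ≠ 2) (hn : n < r) (hrq : ¬ r ∣ Nat.card F)
    (P : Sylow r (Matrix.symplecticGroup (Fin n) F)) :
    Nonempty (↥(P : Subgroup (Matrix.symplecticGroup (Fin n) F)) ≃*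
      (Fin ((Finset.Icc 1 n).filter (fun i => orderOf (Nat.card F : ZMod r) ∣ 2 * i)).card →
        Multiplicative (ZMod (r ^ expo (Nat.card F) r)))) := by
  have hq : 1 < Nat.card F := one_lt_q
  obtain ⟨e, he0, he, hm⟩ := exists_half hq hr2 hrq
  haveI : NeZero e := ⟨he0.ne'⟩
  haveI : NeZero (r ^ expo (Nat.card F) r) := ⟨pow_ne_zero _ hr.out.ne_zero⟩
  rw [card_filter_two he]
  obtain ⟨φ, hφ⟩ := exists_sp_torus_hom (F := F) n e (n / e) (Nat.div_mul_le_self _ _) hm
  haveI : Finite (Matrix.symplecticGroup (Fin n) F) := Subtype.finite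
  refine sylow_iso φ hφ ?_ P
  have h0 : ∏ i ∈ Finset.range n, (Nat.card F ^ (2 * (i + 1)) - 1) ≠ 0 :=
    Finset.prod_ne_zero_iff.2 fun i _ => Nat.sub_ne_zero_of_lt (Nat.one_lt_pow (by omega) hq)
  rw [card_homocyclic, GLOrder.card_Sp, padicValNat.mul (pow_ne_zero _ (by omega)) h0,
    val_prod_two hq hr2 hrq he n hn,
    padicValNat.eq_zero_of_not_dvd (fun h => hrq (hr.out.dvd_of_dvd_pow h)), zero_add, ← pow_mul,
    mul_comm]

end Cfsg.Agent.SylowTorus
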